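import Groth.Agent.TorDimLCI19.FibreTor
import Groth.Agent.CAlg8.NilFlat
import Groth.Agent.WE24.TorDim
import Mathlib.RingTheory.TensorProduct.Finite
import Mathlib.RingTheory.Flat.EquationalCriterion

/-!
If the diagonal of a flat algebra has finite Tor dimension then so has every module over every
base change of the algebra to a field.
-/

set_option autoImplicit false
set_option linter.unusedSectionVars false
universe u

open CategoryTheory CategoryTheory.Limits TensorProduct

namespace Groth.Agent.PerfDiag19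

variable (A K B : Type u) [CommRing A] [CommRing K] [CommRing B] [Algebra A K] [Algebra A B]
  (M : Type u) [AddCommGroup M] [Module A M] [Module B M] [Module K M]
  [IsScalarTower A B M] [IsScalarTower A K M] [SMulCommClass K B M]

noncomputable def baseAction : K →ₐ[A] Module.End (B ⊗[A] B) ((B ⊗[A] B) ⊗[B] M) where
  toFun c := ((Algebra.lsmul A B M : K →ₐ[A] Module.End B M) c).baseChange (B ⊗[A] B)
  map_one' := by rw [map_one]; exact LinearMap.baseChange_one _ _
  map_mul' c d := by rw [map_mul]; exact LinearMap.baseChange_mul _ _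
  map_zero' := by rw [map_zero]; exact LinearMap.baseChange_zero
  map_add' c d := by rw [map_add]; exact LinearMap.baseChange_add _ _
  commutes' a := by
    refine LinearMap.ext fun x => ?_
    induction x using TensorProduct.induction_on with
    | zero => simp
    | tmul t m =>
      show t ⊗ₜ[B] ((algebraMap A K a) • m) = a • (t ⊗ₜ[B] m)
      rw [IsScalarTower.algebraMap_smul, TensorProduct.tmul_smul]
    | add x y hx hy => rw [map_add, map_add, hx, hy]

noncomputable def rightAction : B →ₐ[A] Module.End (B ⊗[A] B) ((B ⊗[A] B) ⊗[B] M) :=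
  (Algebra.lsmul A (B ⊗[A] B) ((B ⊗[A] B) ⊗[B] M) : (B ⊗[A] B) →ₐ[A] _).comp
    Algebra.TensorProduct.includeRight

noncomputable def action : K ⊗[A] B →ₐ[A] Module.End (B ⊗[A] B) ((B ⊗[A] B) ⊗[B] M) :=
  Algebra.TensorProduct.lift (baseAction A K B M) (rightAction A B M) fun c b => by
    refine LinearMap.ext fun x => ?_
    show baseAction A K B M c (((1 : B) ⊗ₜ[A] b) • x) = ((1 : B) ⊗ₜ[A] b) • baseAction A K B M c x
    rw [map_smul]

/-- the carrier `(B ⊗_A B) ⊗_B M`, with commuting actions of `B ⊗_A B` and of `K ⊗_A B` -/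
def Bim (_A _K B M : Type u) [CommRing _A] [CommRing B] [Algebra _A B] [AddCommGroup M] [Module B M] :
    Type u := (B ⊗[_A] B) ⊗[B] M

noncomputable instance bimAddCommGroup : AddCommGroup (Bim A K B M) :=
  inferInstanceAs (AddCommGroup ((B ⊗[A] B) ⊗[B] M))

noncomputable instance bimModuleT : Module (B ⊗[A] B) (Bim A K B M) :=
  inferInstanceAs (Module (B ⊗[A] B) ((B ⊗[A] B) ⊗[B] M))

/-- forget the synonym -/
noncomputable def unBim : Bim A K B M ≃ₗ[B ⊗[A] B] (B ⊗[A] B) ⊗[B] M := LinearEquiv.refl _ _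

noncomputable instance bimModule : Module (K ⊗[A] B) (Bim A K B M) :=
  Module.compHom ((B ⊗[A] B) ⊗[B] M) (action A K B M).toRingHom

instance bimComm : SMulCommClass (B ⊗[A] B) (K ⊗[A] B) (Bim A K B M) :=
  ⟨fun t s x => ((action A K B M s).map_smul t x).symm⟩

theorem smul_tmul (c : K) (b : B) (t : B ⊗[A] B) (m : M) :
    (c ⊗ₜ[A] b : K ⊗[A] B) • (unBim A K B M).symm (t ⊗ₜ[B] m) =
      (unBim A K B M).symm ((((1 : B) ⊗ₜ[A] b) * t) ⊗ₜ[B] (c • m)) := by
  show action A K B M (c ⊗ₜ[A] b) (t ⊗ₜ[B] m) = _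
  rw [action, Algebra.TensorProduct.lift_tmul]
  show baseAction A K B M c (((1 : B) ⊗ₜ[A] b) • (t ⊗ₜ[B] m)) = _
  rw [TensorProduct.smul_tmul', smul_eq_mul]
  rfl

theorem smul_one_tmul (c : K) (t : B ⊗[A] B) (m : M) :
    (c ⊗ₜ[A] (1 : B) : K ⊗[A] B) • (unBim A K B M).symm (t ⊗ₜ[B] m) =
      (unBim A K B M).symm (t ⊗ₜ[B] (c • m)) := by
  rw [smul_tmul, ← Algebra.TensorProduct.one_def, one_mul]

theorem bim_induction {motive : Bim A K B M → Prop} (z : Bim A K B M) (zero : motive 0)
    (tmul : ∀ x y m, motive ((unBim A K B M).symm ((x ⊗ₜ[A] y) ⊗ₜ[B] m)))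
    (add : ∀ x y, motive x → motive y → motive (x + y)) : motive z := by
  obtain ⟨w, rfl⟩ := (unBim A K B M).symm.surjective z
  induction w using TensorProduct.induction_on with
  | zero => rw [map_zero]; exact zero
  | add w w' hw hw' => rw [map_add]; exact add _ _ hw hw'
  | tmul t m =>
    induction t using TensorProduct.induction_on with
    | zero => rw [TensorProduct.zero_tmul, map_zero]; exact zero
    | add t t' ht ht' => rw [TensorProduct.add_tmul, map_add]; exact add _ _ ht ht'
    | tmul x y => exact tmul x y m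

/-- comparison from the base change of `M` -/
noncomputable def toBim : (K ⊗[A] B) ⊗[K] M →+ Bim A K B M :=
  TensorProduct.liftAddHom
    (AddMonoidHom.mk' (fun (s : K ⊗[A] B) => AddMonoidHom.mk' (fun (m : M) => s • (unBim A K B M).symm ((1 : B ⊗[A] B) ⊗ₜ[B] m))
      fun m n => by rw [TensorProduct.tmul_add, map_add, smul_add])
      fun s s' => by ext m; simp [add_smul])
    fun c s m => by
      show (c • s) • (unBim A K B M).symm ((1 : B ⊗[A] B) ⊗ₜ[B] m) = s • (unBim A K B M).symm ((1 : B ⊗[A] B) ⊗ₜ[B] (c • m))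
      rw [Algebra.smul_def, mul_comm, mul_smul, Algebra.TensorProduct.algebraMap_apply,
        Algebra.algebraMap_self, RingHom.id_apply, smul_one_tmul]

noncomputable def fromBimAux : B ⊗[A] B →+ M →+ (K ⊗[A] B) ⊗[K] M :=
  TensorProduct.liftAddHom
    (AddMonoidHom.mk' (fun x => AddMonoidHom.mk' (fun y => AddMonoidHom.mk'
      (fun m => ((1 : K) ⊗ₜ[A] y : K ⊗[A] B) ⊗ₜ[K] (x • m))
      (fun m n => by rw [smul_add, TensorProduct.tmul_add]))
      (fun y y' => by ext m; simp [TensorProduct.tmul_add, TensorProduct.add_tmul]))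
      (fun x x' => by ext y m; simp [add_smul, TensorProduct.tmul_add]))
    fun a x y => by
      ext m
      show ((1 : K) ⊗ₜ[A] y : K ⊗[A] B) ⊗ₜ[K] ((a • x) • m) = ((1 : K) ⊗ₜ[A] (a • y)) ⊗ₜ[K] (x • m)
      rw [smul_assoc, ← IsScalarTower.algebraMap_smul K a (x • m), ← TensorProduct.smul_tmul,
        TensorProduct.smul_tmul', smul_eq_mul, mul_one, ← TensorProduct.smul_tmul a (1 : K) y,
        Algebra.smul_def, mul_one]

noncomputable def fromBim : Bim A K B M →+ (K ⊗[A] B) ⊗[K] M :=
  AddMonoidHom.comp (TensorProduct.liftAddHom (fromBimAux A K B M) fun b t m => by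
    induction t using TensorProduct.induction_on with
    | zero => simp
    | tmul x y =>
      rw [TensorProduct.smul_tmul']
      show ((1 : K) ⊗ₜ[A] y : K ⊗[A] B) ⊗ₜ[K] ((b • x) • m) = ((1 : K) ⊗ₜ[A] y) ⊗ₜ[K] (x • (b • m))
      rw [smul_eq_mul, mul_comm, mul_smul]
    | add t t' ht ht' => rw [smul_add, map_add, map_add, AddMonoidHom.add_apply, AddMonoidHom.add_apply, ht, ht'])
    (unBim A K B M).toLinearMap.toAddMonoidHom

theorem fromBim_tmul (x y : B) (m : M) :
    fromBim A K B M ((unBim A K B M).symm ((x ⊗ₜ[A] y) ⊗ₜ[B] m)) =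
      ((1 : K) ⊗ₜ[A] y : K ⊗[A] B) ⊗ₜ[K] (x • m) := rfl

theorem toBim_tmul (s : K ⊗[A] B) (m : M) :
    toBim A K B M (s ⊗ₜ[K] m) = s • (unBim A K B M).symm ((1 : B ⊗[A] B) ⊗ₜ[B] m) := rfl

theorem fromBim_smul (c : K) (b : B) (z : Bim A K B M) :
    fromBim A K B M ((c ⊗ₜ[A] b : K ⊗[A] B) • z) = (c ⊗ₜ[A] b : K ⊗[A] B) • fromBim A K B M z := by
  induction z using bim_induction A K B M with
  | zero => simp
  | add z z' hz hz' => rw [smul_add, map_add, map_add, smul_add, hz, hz']
  | tmul x y m =>
    rw [smul_tmul, Algebra.TensorProduct.tmul_mul_tmul, one_mul, fromBim_tmul, fromBim_tmul,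
      ← smul_comm c x m, ← TensorProduct.smul_tmul, TensorProduct.smul_tmul' c (1 : K) (b * y),
      TensorProduct.smul_tmul' (c ⊗ₜ[A] b : K ⊗[A] B), smul_eq_mul, smul_eq_mul,
      Algebra.TensorProduct.tmul_mul_tmul, mul_one]

/-- `(B ⊗ B) ⊗_B M` is the base change of `M` from `K` -/
noncomputable def bimEquiv : Bim A K B M ≃ₗ[K ⊗[A] B] (K ⊗[A] B) ⊗[K] M where
  toFun := fromBim A K B M
  invFun := toBim A K B M
  map_add' := map_add _
  map_smul' s z := by
    induction s using TensorProduct.induction_on with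
    | zero => simp
    | tmul c b => exact fromBim_smul A K B M c b z
    | add s s' hs hs' =>
      simp only [RingHom.id_apply] at hs hs' ⊢
      rw [add_smul, map_add, hs, hs', add_smul]
  left_inv z := by
    induction z using bim_induction A K B M with
    | zero => simp
    | add z z' hz hz' => rw [map_add, map_add, hz, hz']
    | tmul x y m =>
      rw [fromBim_tmul, toBim_tmul, smul_tmul, one_smul, mul_one, ← TensorProduct.smul_tmul,
        TensorProduct.smul_tmul', smul_eq_mul, mul_one]
  right_inv z := by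
    induction z using TensorProduct.induction_on with
    | zero => simp
    | add z z' hz hz' => rw [map_add, map_add, hz, hz']
    | tmul s m =>
      induction s using TensorProduct.induction_on with
      | zero => simp
      | add s s' hs hs' => rw [TensorProduct.add_tmul, map_add, map_add, hs, hs']
      | tmul c b =>
        rw [toBim_tmul, fromBim_smul, Algebra.TensorProduct.one_def, fromBim_tmul, one_smul,
          TensorProduct.smul_tmul', smul_eq_mul, Algebra.TensorProduct.tmul_mul_tmul, mul_one, mul_one]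

theorem flat_bim [Module.Flat K M] : Module.Flat (K ⊗[A] B) (Bim A K B M) :=
  Module.Flat.of_linearEquiv (bimEquiv A K B M)

/-- free modules -/
noncomputable def finsuppEquiv (ι : Type u) :
    Bim A K B M ⊗[B ⊗[A] B] (ι →₀ B ⊗[A] B) ≃ₗ[K ⊗[A] B] (ι →₀ Bim A K B M) :=
  letI : DecidableEq ι := Classical.decEq ι
  { TensorProduct.finsuppScalarRight (B ⊗[A] B) (B ⊗[A] B) (Bim A K B M) ι with
    map_smul' := fun s z => by
      show TensorProduct.finsuppScalarRight (B ⊗[A] B) (B ⊗[A] B) (Bim A K B M) ι (s • z) =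
        s • TensorProduct.finsuppScalarRight (B ⊗[A] B) (B ⊗[A] B) (Bim A K B M) ι z
      induction z using TensorProduct.induction_on with
      | zero => simp
      | add z z' hz hz' => rw [smul_add, map_add, map_add, smul_add, hz, hz']
      | tmul x p =>
        ext i
        rw [TensorProduct.smul_tmul', Finsupp.smul_apply, TensorProduct.finsuppScalarRight_apply_tmul_apply,
          TensorProduct.finsuppScalarRight_apply_tmul_apply]
        exact smul_comm (p i) s x }

/-- `lTensor`, linear for the commuting action -/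
noncomputable def lT {Q Q' : Type u} [AddCommGroup Q] [Module (B ⊗[A] B) Q] [AddCommGroup Q']
    [Module (B ⊗[A] B) Q'] (f : Q →ₗ[B ⊗[A] B] Q') :
    Bim A K B M ⊗[B ⊗[A] B] Q →ₗ[K ⊗[A] B] Bim A K B M ⊗[B ⊗[A] B] Q' :=
  { f.lTensor (Bim A K B M) with
    map_smul' := fun s z => by
      show f.lTensor (Bim A K B M) (s • z) = s • f.lTensor (Bim A K B M) z
      induction z using TensorProduct.induction_on with
      | zero => simp
      | add z z' hz hz' => rw [smul_add, map_add, map_add, smul_add, hz, hz']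
      | tmul x q => rw [TensorProduct.smul_tmul', LinearMap.lTensor_tmul, LinearMap.lTensor_tmul,
          TensorProduct.smul_tmul'] }

theorem flat_of_projective [Module.Flat K M] (Q : Type u) [AddCommGroup Q] [Module (B ⊗[A] B) Q]
    [Module.Projective (B ⊗[A] B) Q] : Module.Flat (K ⊗[A] B) (Bim A K B M ⊗[B ⊗[A] B] Q) := by
  obtain ⟨i, hi⟩ := Module.projective_def'.1 (inferInstance : Module.Projective (B ⊗[A] B) Q)
  have := flat_bim A K B M
  classical
  have : Module.Flat (K ⊗[A] B) (Q →₀ Bim A K B M) :=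
    Module.Flat.of_linearEquiv (finsuppLEquivDirectSum (K ⊗[A] B) (Bim A K B M) Q)
  have : Module.Flat (K ⊗[A] B) (Bim A K B M ⊗[B ⊗[A] B] (Q →₀ B ⊗[A] B)) :=
    Module.Flat.of_linearEquiv (finsuppEquiv A K B M Q)
  refine Module.Flat.of_retract (lT A K B M i) (lT A K B M (Finsupp.linearCombination (B ⊗[A] B) id))
    (LinearMap.ext fun z => ?_)
  show (Finsupp.linearCombination (B ⊗[A] B) id).lTensor _ (i.lTensor _ z) = z
  rw [← LinearMap.comp_apply, ← LinearMap.lTensor_comp, hi, LinearMap.lTensor_id, LinearMap.id_apply]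

/-- the functor is `- ⊗_B M` -/
noncomputable def cancel (Q : Type u) [AddCommGroup Q] [Module (B ⊗[A] B) Q] [Module B Q]
    [IsScalarTower B (B ⊗[A] B) Q] : Bim A K B M ⊗[B ⊗[A] B] Q ≃+ Q ⊗[B] M :=
  ((TensorProduct.congr (unBim A K B M) (LinearEquiv.refl _ Q)).trans
    (TensorProduct.comm _ _ _)).toAddEquiv.trans
    (AlgebraTensorModule.cancelBaseChange B (B ⊗[A] B) (B ⊗[A] B) Q M).toAddEquiv

theorem cancel_tmul (Q : Type u) [AddCommGroup Q] [Module (B ⊗[A] B) Q] [Module B Q]
    [IsScalarTower B (B ⊗[A] B) Q] (t : B ⊗[A] B) (m : M) (x : Q) :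
    cancel A K B M Q ((unBim A K B M).symm (t ⊗ₜ[B] m) ⊗ₜ x) = (t • x) ⊗ₜ[B] m := by
  simp [cancel]

theorem injective_lTensor {Q₁ Q₂ Q₃ : Type u} [AddCommGroup Q₁] [Module (B ⊗[A] B) Q₁] [Module B Q₁]
    [IsScalarTower B (B ⊗[A] B) Q₁] [AddCommGroup Q₂] [Module (B ⊗[A] B) Q₂] [Module B Q₂]
    [IsScalarTower B (B ⊗[A] B) Q₂] [AddCommGroup Q₃] [Module (B ⊗[A] B) Q₃] [Module B Q₃]
    [IsScalarTower B (B ⊗[A] B) Q₃] [Module.Flat B Q₃]
    (f : Q₁ →ₗ[B ⊗[A] B] Q₂) (g : Q₂ →ₗ[B ⊗[A] B] Q₃) (hf : Function.Injective f)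
    (hg : Function.Surjective g) (hfg : Function.Exact f g) :
    Function.Injective (f.lTensor (Bim A K B M)) := by
  have h := LinearMap.lTensor_injective_of_exact_of_flat (g.restrictScalars B) hg (f.restrictScalars B)
    hf hfg M
  have h' : Function.Injective ((f.restrictScalars B).rTensor M) := by
    intro z w hzw
    apply (TensorProduct.comm B Q₁ M).injective
    apply h
    have : (f.restrictScalars B).lTensor M ∘ₗ (TensorProduct.comm B Q₁ M).toLinearMap =
        (TensorProduct.comm B Q₂ M).toLinearMap ∘ₗ (f.restrictScalars B).rTensor M := TensorProduct.ext' fun x y => by simp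
    exact (LinearMap.congr_fun this z).trans ((congrArg _ hzw).trans (LinearMap.congr_fun this w).symm)
  intro z w hzw
  apply (cancel A K B M Q₁).injective
  apply h'
  have hnat : ∀ v, (f.restrictScalars B).rTensor M (cancel A K B M Q₁ v) =
      cancel A K B M Q₂ (f.lTensor (Bim A K B M) v) := fun v => by
    induction v using TensorProduct.induction_on with
    | zero => simp
    | add v v' hv hv' => rw [map_add, map_add, hv, hv', map_add, map_add]
    | tmul p x =>
      induction p using bim_induction A K B M with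
      | zero => simp
      | add p p' hp hp' => rw [TensorProduct.add_tmul, map_add, map_add, hp, hp', map_add, map_add]
      | tmul t t' m =>
        rw [cancel_tmul, LinearMap.rTensor_tmul, LinearMap.lTensor_tmul, cancel_tmul,
          LinearMap.restrictScalars_apply, map_smul]
  rw [hnat, hnat, hzw]

theorem flat_of_hasTorDimLE_zero {R : Type u} [CommRing R] (Q : Type u) [AddCommGroup Q] [Module R Q]
    (h : DRing.HasTorDimLE R 0 Q) : Module.Flat R Q :=
  WE24.flat_of_isZero_tor_one Q fun S =>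
    TorDimLCI19.isZero_tor_symm 1 (ModuleCat.isZero_iff_subsingleton.2 (h S 1 Nat.one_pos))

theorem hasTorDimLE_bim [IsNoetherianRing (B ⊗[A] B)] [Module.Flat A B] [Module.Flat K M] : ∀ (n : ℕ)
    (Q : Type u) [AddCommGroup Q] [Module (B ⊗[A] B) Q] [Module B Q] [IsScalarTower B (B ⊗[A] B) Q]
    [Module.Finite (B ⊗[A] B) Q] [Module.Flat B Q], DRing.HasTorDimLE (B ⊗[A] B) n Q →
      DRing.HasTorDimLE (K ⊗[A] B) n (Bim A K B M ⊗[B ⊗[A] B] Q) := by
  intro n
  induction n with
  | zero =>
    intro Q _ _ _ _ _ _ h N _ _ p hp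
    have hflat : Module.Flat (B ⊗[A] B) Q := flat_of_hasTorDimLE_zero Q h
    have : Module.FinitePresentation (B ⊗[A] B) Q := Module.finitePresentation_of_finite _ _
    have : Module.Projective (B ⊗[A] B) Q := Module.Flat.projective_of_finitePresentation
    have := flat_of_projective A K B M Q
    obtain ⟨i, rfl⟩ : ∃ i, p = i + 1 := ⟨p - 1, by omega⟩
    exact ModuleCat.isZero_iff_subsingleton.1 (TorBal94.isZero_tor_of_flat_left _ (ModuleCat.of _ N) i)
  | succ n ih =>
    intro Q _ _ _ _ _ _ h
    obtain ⟨r, π, hπ⟩ := Module.Finite.exists_fin' (B ⊗[A] B) Q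
    let ker := LinearMap.ker π
    have hex : Function.Exact ker.subtype π := LinearMap.exact_subtype_ker_map π
    have : Module.Flat B (Fin r →₀ B ⊗[A] B) :=
      Module.Flat.of_linearEquiv (finsuppLEquivDirectSum B (B ⊗[A] B) (Fin r))
    have hFflat : Module.Flat B (Fin r → B ⊗[A] B) :=
      Module.Flat.of_linearEquiv (Finsupp.linearEquivFunOnFinite B (B ⊗[A] B) (Fin r)).symm
    have : Module.Flat B ker := CAlg8.NilFlat.flat_kernel (ker.subtype.restrictScalars B) (π.restrictScalars B)
      Subtype.val_injective hπ hex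
    have hker : DRing.HasTorDimLE (B ⊗[A] B) n ker := fun N _ _ p hp => by
      obtain ⟨i, rfl⟩ : ∃ i, p = i + 1 := ⟨p - 1, by omega⟩
      exact ModuleCat.isZero_iff_subsingleton.1 (TorBal94.isZero_tor_left ker.subtype π
        Subtype.val_injective hex hπ (ModuleCat.of _ N) (i + 1)
        (TorBal94.isZero_tor_of_flat_left _ _ i)
        (ModuleCat.isZero_iff_subsingleton.2 (h N (i + 1 + 1) (by omega))))
    have h1 := ih ker hker
    have hi := injective_lTensor A K B M ker.subtype π Subtype.val_injective hπ hex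
    have he := lTensor_exact (Bim A K B M) hex hπ
    have hs := LinearMap.lTensor_surjective (Bim A K B M) hπ
    have := flat_of_projective A K B M (Fin r → B ⊗[A] B)
    intro N _ _ p hp
    obtain ⟨i, rfl⟩ : ∃ i, p = i + 1 := ⟨p - 1, by omega⟩
    obtain ⟨j, rfl⟩ : ∃ j, i = j + 1 := ⟨i - 1, by omega⟩
    exact ModuleCat.isZero_iff_subsingleton.1 (TorDimLCI19.isZero_tor_right
      (lT A K B M ker.subtype) (lT A K B M π) hi he hs (ModuleCat.of _ N) (j + 1)
      (ModuleCat.isZero_iff_subsingleton.2 (h1 N (j + 1) (by omega)))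
      (TorBal94.isZero_tor_of_flat_left _ _ (j + 1)))

end Groth.Agent.PerfDiag19
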