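import Groth.Agent.PerfDiag19.Smooth
import Groth.Agent.Unr55.SmoothDesc
import Groth.Agent.Unr55.DescSmooth
import Groth.Agent.FlatMor67.RegularSmooth
import Groth.Agent.CAlg1.FlatFibre

/-! A flat essentially finite type local algebra with perfect diagonal is essentially smooth. -/

set_option autoImplicit false
set_option linter.unusedSectionVars false
universe u

open CategoryTheory CategoryTheory.Limits TensorProduct IsLocalRing

namespace Groth.Agent.PerfDiag19

variable {A B : Type u} [CommRing A] [CommRing B] [Algebra A B] [Algebra (B ⊗[A] B) B]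

theorem regular_base_change_stalk [IsNoetherianRing (B ⊗[A] B)] [Module.Flat A B]
    (hmul : ∀ x y : B, algebraMap (B ⊗[A] B) B (x ⊗ₜ[A] y) = x * y) {n : ℕ}
    (h : DRing.HasTorDimLE (B ⊗[A] B) n B) (C : Type u) [CommRing C] [Algebra A C] [Algebra C B]
    [IsScalarTower A C B] (q : Ideal C) [q.IsPrime] [IsLocalization.AtPrime B q]
    (K : Type u) [Field K] [Algebra A K] [IsNoetherianRing (K ⊗[A] B)] (Q : Ideal (K ⊗[A] C)) [Q.IsPrime]
    (hQ : Q.comap (Algebra.TensorProduct.includeRight : C →ₐ[A] K ⊗[A] C) = q) :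
    IsRegularLocalRing (Localization.AtPrime Q) := by
  let iCB : Algebra (K ⊗[A] C) (K ⊗[A] B) :=
    (Algebra.TensorProduct.map (AlgHom.id K K) (IsScalarTower.toAlgHom A C B)).toRingHom.toAlgebra
  have : IsScalarTower K (K ⊗[A] C) (K ⊗[A] B) := IsScalarTower.of_algebraMap_eq fun k => by
    simp [RingHom.algebraMap_toAlgebra]
  let M := q.primeCompl.map (Algebra.TensorProduct.includeRight (R := A) (A := K) : C →ₐ[A] K ⊗[A] C)
  have hloc : IsLocalization M (K ⊗[A] B) := IsLocalization.tensorProduct_tensorProduct_right A K q.primeCompl B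
    (RingHom.ext fun c => by simp [RingHom.algebraMap_toAlgebra])
  have hdisj : Disjoint (M : Set (K ⊗[A] C)) Q := Set.disjoint_left.2 fun x hx hxQ => by
    obtain ⟨s, hs, rfl⟩ := hx
    exact hs (hQ ▸ (hxQ : s ∈ Q.comap (Algebra.TensorProduct.includeRight : C →ₐ[A] K ⊗[A] C)))
  let P := Q.map (algebraMap (K ⊗[A] C) (K ⊗[A] B))
  have : P.IsPrime := IsLocalization.isPrime_of_isPrime_disjoint M _ Q inferInstance hdisj
  have hP : P.comap (algebraMap (K ⊗[A] C) (K ⊗[A] B)) = Q :=
    IsLocalization.under_map_of_isPrime_disjoint M _ inferInstance hdisj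
  have := isRegularLocalRing_of_torDim P fun N _ _ => hasTorDimLE_baseChange hmul h K N
  have hl := IsLocalization.isLocalization_isLocalization_atPrime_isLocalization M (Localization.AtPrime P) P
  have key : ∀ (Q' : Ideal (K ⊗[A] C)) [Q'.IsPrime], Q' = P.comap (algebraMap (K ⊗[A] C) (K ⊗[A] B)) →
      IsLocalization Q'.primeCompl (Localization.AtPrime P) := fun Q' _ h => by subst h; exact hl
  have : IsLocalization Q.primeCompl (Localization.AtPrime P) := key Q hP.symm
  exact IsRegularLocalRing.of_ringEquiv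
    (IsLocalization.algEquiv Q.primeCompl (Localization.AtPrime P) (Localization.AtPrime Q)).toRingEquiv

theorem exists_smooth_of_diagonal [IsNoetherianRing A] [IsNoetherianRing B] [IsLocalRing B]
    [Module.Flat A B] [Algebra.EssFiniteType A B]
    (hmul : ∀ x y : B, algebraMap (B ⊗[A] B) B (x ⊗ₜ[A] y) = x * y)
    (h : DRing.HasFiniteTorDim (B ⊗[A] B) B) :
    ∃ (C : Type u) (_ : CommRing C) (_ : Algebra A C) (_ : Algebra C B) (_ : IsScalarTower A C B)
      (q : Ideal C) (_ : q.IsPrime), Algebra.Smooth A C ∧ IsLocalization.AtPrime B q := by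
  obtain ⟨n, hn⟩ := h
  have : IsNoetherianRing (B ⊗[A] B) := Algebra.EssFiniteType.isNoetherianRing B (B ⊗[A] B)
  let C := Algebra.EssFiniteType.subalgebra A B
  let q : Ideal C := (maximalIdeal B).comap (algebraMap C B)
  have hsub : Algebra.EssFiniteType.submonoid A B = q.primeCompl := by
    ext x
    exact (not_not (a := IsUnit (algebraMap C B x))).symm
  have hq : IsLocalization.AtPrime B q := by
    have hh := Algebra.EssFiniteType.isLocalization (R := A) (S := B)
    rw [hsub] at hh
    exact hh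
  have : Algebra.FinitePresentation A C := Algebra.FinitePresentation.of_finiteType.1 inferInstance
  have : Module.Flat A (Localization.AtPrime q) := Module.Flat.of_linearEquiv
    ((IsLocalization.algEquiv q.primeCompl (Localization.AtPrime q) B).toLinearEquiv.restrictScalars A)
  let p := q.under A
  have : q.LiesOver p := ⟨rfl⟩
  obtain ⟨Q₀, _, hQ₀⟩ := CAlg1.exists_fibre_prime (R := A) q
  let κ := p.ResidueField
  let K := AlgebraicClosure κ
  let F := p.Fiber C
  have hint : (Algebra.TensorProduct.includeRight (R := κ) (A := K) (B := F)).toRingHom.IsIntegral := by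
    let := Algebra.TensorProduct.rightAlgebra (R := κ) (A := K) (B := F)
    have : Algebra.IsIntegral F (K ⊗[κ] F) :=
      Algebra.IsPushout.isIntegral (R := κ) (S := K) (A := F) (SA := K ⊗[κ] F)
    exact this.isIntegral
  have hinj : Function.Injective (Algebra.TensorProduct.includeRight (R := κ) (A := K) (B := F)).toRingHom :=
    Algebra.TensorProduct.includeRight_injective (algebraMap κ K).injective
  obtain ⟨⟨Q₁, hQ₁p⟩, hQ₁'⟩ := RingHom.IsIntegral.comap_surjective (R := F) (S := K ⊗[κ] F) hint hinj ⟨Q₀, ‹_›⟩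
  have hQ₁ : Q₁.comap (Algebra.TensorProduct.includeRight (R := κ) (A := K) (B := F)).toRingHom = Q₀ :=
    congrArg PrimeSpectrum.asIdeal hQ₁'
  let e := Algebra.TensorProduct.cancelBaseChange A κ K K C
  let Q := Q₁.comap e.symm.toRingEquiv
  have hQ : Q.comap (Algebra.TensorProduct.includeRight : C →ₐ[A] K ⊗[A] C) = q := by
    refine Eq.trans ?_ hQ₀
    rw [← hQ₁]
    ext c
    show e.symm ((1 : K) ⊗ₜ[A] c) ∈ Q₁ ↔ (1 : K) ⊗ₜ[κ] ((1 : κ) ⊗ₜ[A] c) ∈ Q₁
    rw [show e.symm ((1 : K) ⊗ₜ[A] c) = (1 : K) ⊗ₜ[κ] ((1 : κ) ⊗ₜ[A] c) by simp [e]]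
  have : IsNoetherianRing (K ⊗[A] B) := Algebra.EssFiniteType.isNoetherianRing K (K ⊗[A] B)
  have := regular_base_change_stalk hmul hn C q K Q hQ
  have : IsRegularLocalRing (Localization.AtPrime Q₁) :=
    IsRegularLocalRing.of_ringEquiv (IsLocalization.ringEquivOfRingEquiv (Localization.AtPrime Q)
      (Localization.AtPrime Q₁) e.symm.toRingEquiv (RingEquiv.map_primeCompl_comap_eq e.symm.toRingEquiv Q₁))
  have := Sep12.formallySmooth_of_perfectField K Q₁.ResidueField
  have hs1 : Algebra.IsSmoothAt K Q₁ := FlatMor67.isSmoothAt_of_regular Q₁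
  have hs2 := Unr55.isSmoothAt_of_baseChange (R := κ) (R' := K) (S := F) Q₁ hs1
  have : Algebra.IsSmoothAt κ Q₀ := by simpa only [hQ₁] using hs2
  have : Algebra.IsSmoothAt A q := Unr55.isSmoothAt_of_flat_of_fibre p q Q₀ hQ₀
  obtain ⟨g, hg, hsm⟩ := Algebra.IsSmoothAt.exists_notMem_smooth (R := A) (p := q)
  let Cg := Localization.Away g
  have hu : ∀ y : Submonoid.powers g, IsUnit (algebraMap C B y) := fun y =>
    IsLocalization.map_units B (⟨y, Submonoid.powers_le.2 (show g ∈ q.primeCompl from hg) y.2⟩ : q.primeCompl)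
  let iAlg : Algebra Cg B := (IsLocalization.lift hu).toAlgebra
  have : IsScalarTower C Cg B := IsScalarTower.of_algebraMap_eq fun c => (IsLocalization.lift_eq hu c).symm
  have : IsScalarTower A Cg B := IsScalarTower.of_algebraMap_eq fun a => by
    rw [IsScalarTower.algebraMap_apply A C Cg, ← IsScalarTower.algebraMap_apply C Cg B,
      ← IsScalarTower.algebraMap_apply A C B]
  let q' := q.map (algebraMap C Cg)
  have hd : Disjoint (Submonoid.powers g : Set C) q := Set.disjoint_left.2 fun x hx hxq =>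
    (Submonoid.powers_le.2 (show g ∈ q.primeCompl from hg) hx) hxq
  have : q'.IsPrime := IsLocalization.isPrime_of_isPrime_disjoint (Submonoid.powers g) Cg q inferInstance hd
  refine ⟨Cg, inferInstance, inferInstance, iAlg, inferInstance, q', inferInstance, hsm, ?_⟩
  have hB := IsLocalization.isLocalization_of_submonoid_le Cg B (Submonoid.powers g) q.primeCompl
    (Submonoid.powers_le.2 hg)
  refine IsLocalization.isLocalization_of_is_exists_mul_mem (S := B)
    (q.primeCompl.map (algebraMap C Cg)) q'.primeCompl ?_ ?_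
  · rintro x ⟨c, hc, rfl⟩ hx
    have := IsLocalization.under_map_of_isPrime_disjoint (Submonoid.powers g) Cg (I := q) inferInstance hd
    exact hc (this ▸ hx)
  · rintro ⟨x, hx⟩
    obtain ⟨⟨c, s⟩, rfl⟩ := IsLocalization.mk'_surjective (Submonoid.powers g) x
    refine ⟨algebraMap C Cg (s : C), c, fun hc => hx ?_, ?_⟩
    · exact (IsLocalization.mk'_mem_iff).2 (Ideal.mem_map_of_mem _ hc)
    · exact (IsLocalization.mk'_spec' Cg c s).symm

end Groth.Agent.PerfDiag19
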