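import Groth.Agent.PerfDiag19.Bimod
import Groth.Agent.Var76.RegSmooth
import Groth.Agent.EGA4H10.Serre
import Groth.Agent.EGA4Alg4.TorPD
import Mathlib.RingTheory.Etale.Descent
import Mathlib.RingTheory.Smooth.Fiber
import Mathlib.FieldTheory.IsAlgClosed.AlgebraicClosure

/-! A flat algebra with perfect diagonal is smooth. -/

set_option autoImplicit false
set_option linter.unusedSectionVars false
universe u

open CategoryTheory CategoryTheory.Limits TensorProduct IsLocalRing

namespace Groth.Agent.PerfDiag19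

variable {A B : Type u} [CommRing A] [CommRing B] [Algebra A B] [Algebra (B ⊗[A] B) B]

theorem algebraMap_mul (hmul : ∀ x y : B, algebraMap (B ⊗[A] B) B (x ⊗ₜ[A] y) = x * y) (b : B)
    (t : B ⊗[A] B) : algebraMap (B ⊗[A] B) B (b • t) = b * algebraMap (B ⊗[A] B) B t := by
  rw [Algebra.smul_def, map_mul, Algebra.TensorProduct.algebraMap_apply, Algebra.algebraMap_self,
    RingHom.id_apply, hmul, mul_one]

theorem hasTorDimLE_baseChange [IsNoetherianRing (B ⊗[A] B)] [Module.Flat A B]
    (hmul : ∀ x y : B, algebraMap (B ⊗[A] B) B (x ⊗ₜ[A] y) = x * y) {n : ℕ}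
    (h : DRing.HasTorDimLE (B ⊗[A] B) n B) (K : Type u) [Field K] [Algebra A K]
    (M : Type u) [AddCommGroup M] [Module (K ⊗[A] B) M] : DRing.HasTorDimLE (K ⊗[A] B) n M := by
  let iB : Algebra B (K ⊗[A] B) := Algebra.TensorProduct.rightAlgebra
  let : Module B M := Module.compHom M (algebraMap B (K ⊗[A] B))
  let : Module K M := Module.compHom M (algebraMap K (K ⊗[A] B))
  let : Module A M := Module.compHom M (algebraMap A (K ⊗[A] B))
  have : IsScalarTower A B M := IsScalarTower.of_algebraMap_smul fun a m => by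
    show ((1 : K) ⊗ₜ[A] algebraMap A B a : K ⊗[A] B) • m = algebraMap A (K ⊗[A] B) a • m
    rw [Algebra.algebraMap_eq_smul_one, ← TensorProduct.smul_tmul,
      Algebra.TensorProduct.algebraMap_apply, Algebra.algebraMap_eq_smul_one]
  have : IsScalarTower A K M := IsScalarTower.of_algebraMap_smul fun a m => by
    show algebraMap K (K ⊗[A] B) (algebraMap A K a) • m = algebraMap A (K ⊗[A] B) a • m
    rw [← IsScalarTower.algebraMap_apply]
  have : SMulCommClass K B M := ⟨fun c b m => smul_comm (algebraMap K (K ⊗[A] B) c) (algebraMap B (K ⊗[A] B) b) m⟩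
  have : IsScalarTower B (B ⊗[A] B) B := ⟨fun b t x => by
    rw [Algebra.smul_def (A := B), algebraMap_mul hmul, smul_eq_mul, mul_assoc, ← Algebra.smul_def]⟩
  have : Module.Finite (B ⊗[A] B) B := Module.Finite.of_surjective (Algebra.linearMap (B ⊗[A] B) B)
    fun x => ⟨x ⊗ₜ[A] 1, by rw [Algebra.linearMap_apply, hmul, mul_one]⟩
  have h1 := hasTorDimLE_bim A K B M n B h
  let ψ : Bim A K B M ⊗[B ⊗[A] B] B ≃+ M := (cancel A K B M B).trans (TensorProduct.lid B M).toAddEquiv
  have hψ : ∀ (t : B ⊗[A] B) (m : M) (x : B), ψ ((unBim A K B M).symm (t ⊗ₜ[B] m) ⊗ₜ x) = (t • x) • m :=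
    fun t m x => by simp [ψ, cancel_tmul]
  have hψs : ∀ (s : K ⊗[A] B) (z : Bim A K B M ⊗[B ⊗[A] B] B), ψ (s • z) = s • ψ z := fun s z => by
    induction z using TensorProduct.induction_on with
    | zero => simp
    | add z z' hz hz' => rw [smul_add, map_add, map_add, smul_add, hz, hz']
    | tmul p x =>
      induction p using bim_induction A K B M with
      | zero => simp
      | add p p' hp hp' => rw [TensorProduct.add_tmul, smul_add, map_add, map_add, hp, hp', smul_add]
      | tmul a b m =>
        induction s using TensorProduct.induction_on with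
        | zero => simp
        | add s s' hs hs' => rw [add_smul, map_add, hs, hs', add_smul]
        | tmul c d =>
          rw [TensorProduct.smul_tmul', smul_tmul, Algebra.TensorProduct.tmul_mul_tmul, one_mul, hψ, hψ,
            Algebra.smul_def, Algebra.smul_def, hmul, hmul]
          show ((1 : K) ⊗ₜ[A] (a * (d * b) * x) : K ⊗[A] B) • ((c ⊗ₜ[A] (1 : B) : K ⊗[A] B) • m) =
            (c ⊗ₜ[A] d : K ⊗[A] B) • (((1 : K) ⊗ₜ[A] (a * b * x) : K ⊗[A] B) • m)
          rw [smul_smul, smul_smul, Algebra.TensorProduct.tmul_mul_tmul, Algebra.TensorProduct.tmul_mul_tmul]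
          ring_nf
  let e : (Bim A K B M ⊗[B ⊗[A] B] B) ≃ₗ[K ⊗[A] B] M := { ψ with map_smul' := hψs }
  intro N _ _ p hp
  exact ModuleCat.isZero_iff_subsingleton.1 (TorDimLCI19.isZero_tor_congr_left e _ p
    (ModuleCat.isZero_iff_subsingleton.2 (h1 N p hp)))

theorem isRegularLocalRing_of_torDim {R : Type u} [CommRing R] [IsNoetherianRing R] (m : Ideal R) [m.IsPrime]
    {n : ℕ} (h : ∀ (M : Type u) [AddCommGroup M] [Module R M], DRing.HasTorDimLE R n M) :
    IsRegularLocalRing (Localization.AtPrime m) := by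
  let L := Localization.AtPrime m
  let k := ResidueField L
  have : Module.Flat R L := IsLocalization.flat L m.primeCompl
  have : IsLocalizedModule m.primeCompl (LinearMap.id : k →ₗ[R] k) := isLocalizedModule_id m.primeCompl k L
  let e : (L ⊗[R] k) ≃ₗ[L] k := (IsLocalizedModule.isBaseChange m.primeCompl L
    (LinearMap.id : k →ₗ[R] k)).equiv
  have h1 := (TorDimLCI19.tor_base_iff (A := R) (R := L) k k (n + 1)).1 (h k k (n + 1) n.lt_succ_self)
  refine EGA4H10.regular_of_finite_projdim L (n + 1)
    (EGA4Alg4.hasProjectiveDimensionLT_of_isZero_tor n k ?_)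
  exact TorDimLCI19.isZero_tor_symm (n + 1) (TorDimLCI19.isZero_tor_congr_left e _ (n + 1)
    (TorDimLCI19.isZero_tor_symm (n + 1) (ModuleCat.isZero_iff_subsingleton.2 h1)))

theorem smooth_of_diagonal [IsNoetherianRing A] [Algebra.FiniteType A B] [Module.Flat A B]
    (hmul : ∀ x y : B, algebraMap (B ⊗[A] B) B (x ⊗ₜ[A] y) = x * y)
    (h : DRing.HasFiniteTorDim (B ⊗[A] B) B) : Algebra.Smooth A B := by
  obtain ⟨n, hn⟩ := h
  have : IsNoetherianRing B := Algebra.FiniteType.isNoetherianRing A B
  have : IsNoetherianRing (B ⊗[A] B) := Algebra.FiniteType.isNoetherianRing B (B ⊗[A] B)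
  have : Algebra.FinitePresentation A B := Algebra.FinitePresentation.of_finiteType.1 inferInstance
  refine Algebra.Smooth.of_formallySmooth_fiber fun p _ => ?_
  let κ := p.ResidueField
  let K := AlgebraicClosure κ
  have : IsNoetherianRing (K ⊗[A] B) := Algebra.FiniteType.isNoetherianRing K (K ⊗[A] B)
  have : Algebra.Smooth K (K ⊗[A] B) := Var76.RegSmooth.smooth_of_regular fun M _ =>
    isRegularLocalRing_of_torDim M fun N _ _ => hasTorDimLE_baseChange hmul hn K N
  have : Algebra.Smooth K (K ⊗[κ] (p.Fiber B)) :=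
    Algebra.Smooth.of_equiv (Algebra.TensorProduct.cancelBaseChange A κ K K B).symm
  exact (Algebra.Smooth.of_smooth_tensorProduct_of_faithfullyFlat (R := κ) (S := p.Fiber B) (T := K)).formallySmooth

end Groth.Agent.PerfDiag19
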